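import Mathlib

set_option autoImplicit false

/-! Conjugacy inside `SL₂` of matrices with the same trace `t`, `t² ≠ 4`, over a finite field of
odd order. -/

namespace Cfsg.Agent.Lib.Helper5.Q8Norm

open Matrix Polynomial

variable {F : Type*} [Field F]

/-- a non-degenerate binary quadratic form represents `1` -/
theorem exists_form_eq_one [Fintype F] (hodd : Fintype.card F % 2 = 1) (a b c d : F)
    (hdet : a * d - b * c = 1) (hΔ : (a + d) ^ 2 ≠ 4) :
    ∃ v1 v2 : F, c * v1 ^ 2 + (d - a) * v1 * v2 - b * v2 ^ 2 = 1 := by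
  have h2 : (2 : F) ≠ 0 := by
    intro h2
    have : CharP F 2 := CharTwo.of_one_ne_zero_of_two_eq_zero one_ne_zero h2
    have := FiniteField.even_card_of_char_two (ringChar.eq F 2)
    omega
  by_cases hc : c = 0
  · have hda : d - a ≠ 0 := by
      intro hda
      apply hΔ
      have hd : d = a := by linear_combination hda
      subst hd
      subst hc
      linear_combination 4 * hdet
    refine ⟨(1 + b) / (d - a), 1, ?_⟩
    subst hc
    field_simp
    ring
  · obtain ⟨D, hD⟩ : ∃ D : F, D = (a + d) ^ 2 - 4 := ⟨_, rfl⟩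
    have hD0 : D ≠ 0 := by
      rw [hD]; intro h; apply hΔ; linear_combination h
    have hf : degree (C c * X ^ 2 + C 0 * X + C (-1) : F[X]) = 2 := degree_quadratic hc
    have hg : degree (C (-(c * D)) * X ^ 2 + C 0 * X + C 0 : F[X]) = 2 :=
      degree_quadratic (neg_ne_zero.mpr (mul_ne_zero hc hD0))
    obtain ⟨w, z, hwz⟩ := FiniteField.exists_root_sum_quadratic hf hg hodd
    simp only [eval_add, eval_mul, eval_C, eval_pow, eval_X, zero_mul, add_zero] at hwz
    refine ⟨w - (d - a) * z, 2 * c * z, ?_⟩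
    rw [hD] at hwz
    linear_combination hwz + 4 * c * z ^ 2 * hdet

/-- a matrix of determinant `1` and trace `t`, `t² ≠ 4`, is conjugate in `SL₂` to the companion
matrix -/
theorem exists_conj_companion [Fintype F] (hodd : Fintype.card F % 2 = 1)
    (M : Matrix (Fin 2) (Fin 2) F) (hdet : M.det = 1) (hΔ : M.trace ^ 2 ≠ 4) :
    ∃ g : Matrix (Fin 2) (Fin 2) F, g.det = 1 ∧ M * g = g * !![0, -1; 1, M.trace] := by
  rw [det_fin_two] at hdet
  rw [trace_fin_two] at hΔ
  obtain ⟨v1, v2, hv⟩ := exists_form_eq_one hodd _ _ _ _ hdet hΔ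
  refine ⟨!![v1, M 0 0 * v1 + M 0 1 * v2; v2, M 1 0 * v1 + M 1 1 * v2], ?_, ?_⟩
  · rw [det_fin_two_of]
    linear_combination hv
  · rw [trace_fin_two]
    ext i j
    fin_cases i <;> fin_cases j <;> simp [mul_apply, Fin.sum_univ_two]
    · linear_combination (-v1) * hdet
    · linear_combination (-v2) * hdet

end Cfsg.Agent.Lib.Helper5.Q8Norm
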