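import Mathlib

set_option autoImplicit false

/-! Quaternion relations between `2 × 2` matrices and the Hurwitz element. -/

namespace Cfsg.Agent.Lib.Helper5.Q8Norm

open Matrix

variable {F : Type*} [Field F]

/-- Cayley–Hamilton for `2 × 2` matrices -/
theorem cayley (X : Matrix (Fin 2) (Fin 2) F) : X * X = X.trace • X - X.det • 1 := by
  rw [trace_fin_two, det_fin_two]
  ext i j
  fin_cases i <;> fin_cases j <;> simp [mul_apply, Fin.sum_univ_two] <;> ring

/-- trace-zero matrices anticommute up to a scalar -/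
theorem anti_of_trace_zero (N₀ N₁ : Matrix (Fin 2) (Fin 2) F) (h₀ : N₀.trace = 0)
    (h₁ : N₁.trace = 0) : N₀ * N₁ + N₁ * N₀ = (N₀ * N₁).trace • 1 := by
  rw [trace_fin_two] at h₀ h₁
  rw [trace_fin_two]
  have e₀ : N₀ 1 1 = - N₀ 0 0 := by linear_combination h₀
  have e₁ : N₁ 1 1 = - N₁ 0 0 := by linear_combination h₁
  ext i j
  fin_cases i <;> fin_cases j <;> simp [mul_apply, Fin.sum_univ_two, e₀, e₁] <;> ring

/-- if `MA` has non-zero trace then it is a polynomial in its square -/
theorem comm_of_poly (MA MX : Matrix (Fin 2) (Fin 2) F) (t d : F) (ht : t ≠ 0)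
    (h : MA * MA = t • MA - d • 1) (hX : MX * MX = MA * MA) : MX * MA = MA * MX := by
  have h1 : t • MA = MX * MX + d • 1 := by rw [hX, h]; abel
  have h2 : t • (MX * MA) = t • (MA * MX) := by
    rw [← mul_smul_comm, ← smul_mul_assoc, h1]
    simp only [mul_add, add_mul, mul_smul_comm, smul_mul_assoc, mul_one, one_mul, mul_assoc]
  exact smul_right_injective _ ht h2

/-- the matrix relations of a quaternion group of order `8` in `GL₂` -/
theorem quat_rel (MA MX : Matrix (Fin 2) (Fin 2) F)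
    (h4 : MA * MA * (MA * MA) = 1) (hne : MA * MA ≠ 1) (hX : MX * MX = MA * MA)
    (hc : MA * MX * MA = MX) :
    MA * MA = -1 ∧ MX * MX = -1 ∧ MX * MA = -(MA * MX) := by
  have hZ := cayley MA
  have ht : MA.trace = 0 := by
    by_contra ht
    have hcomm := comm_of_poly MA MX _ _ ht hZ hX
    apply hne
    have h5 : MA * MA * MX = MX := by rw [mul_assoc, ← hcomm, ← mul_assoc, hc]
    have h6 : MX * (MX * MX * MX) = 1 := by
      rw [← mul_assoc, ← mul_assoc, mul_assoc, hX, h4]
    calc MA * MA = MA * MA * (MX * (MX * MX * MX)) := by rw [h6, mul_one]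
      _ = (MA * MA * MX) * (MX * MX * MX) := by simp only [mul_assoc]
      _ = 1 := by rw [h5, h6]
  rw [ht, zero_smul, zero_sub] at hZ
  have hd : MA.det * MA.det = 1 := by
    have := h4
    rw [hZ] at this
    have h7 := congrFun (congrFun this 0) 0
    simpa using h7
  have hA : MA * MA = -1 := by
    rcases mul_self_eq_one_iff.mp hd with h | h
    · rw [hZ, h, one_smul]
    · exfalso; apply hne; rw [hZ, h]; simp
  refine ⟨hA, hX.trans hA, ?_⟩
  have : MA * (MA * MX * MA) = MA * MX := by rw [hc]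
  rw [← mul_assoc, ← mul_assoc, hA] at this
  rw [← this]; simp

/-- an element anticommuting with a square root of `-1` has trace zero -/
theorem trace_zero_of_anti (h2 : (2 : F) ≠ 0) (N N' : Matrix (Fin 2) (Fin 2) F)
    (hN' : N' * N' = -1) (h : N' * N = -(N * N')) : N.trace = 0 := by
  have h1 : N = N' * N * N' := by
    rw [h, neg_mul, mul_assoc, hN']; simp
  have h3 : N.trace = - N.trace := by
    conv_lhs => rw [h1]
    rw [mul_assoc, Matrix.trace_mul_comm, mul_assoc, hN']
    simp
  have h4 : (2 : F) * N.trace = 0 := by linear_combination h3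
  rcases mul_eq_zero.mp h4 with h | h
  · exact absurd h h2
  · exact h

/-- twice the Hurwitz element -/
def hurU (i j : Matrix (Fin 2) (Fin 2) F) : Matrix (Fin 2) (Fin 2) F := -1 + i + j + i * j

section
variable (i j : Matrix (Fin 2) (Fin 2) F) (hi : i * i = -1) (hj : j * j = -1)
  (hij : j * i = -(i * j))
include hi hj hij

theorem hurU_mul_i : hurU i j * i = (i * j) * hurU i j := by
  have hi' : ∀ Z, i * (i * Z) = -Z := fun Z => by rw [← mul_assoc, hi]; simp
  have hj' : ∀ Z, j * (j * Z) = -Z := fun Z => by rw [← mul_assoc, hj]; simp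
  have hij' : ∀ Z, j * (i * Z) = -(i * (j * Z)) := fun Z => by
    rw [← mul_assoc, hij]; simp [mul_assoc]
  unfold hurU
  simp only [add_mul, mul_add, neg_mul, mul_neg, one_mul, mul_one, mul_assoc, hi, hj, hij, hi',
    hj', hij', neg_neg]
  abel

theorem hurU_mul_j : hurU i j * j = i * hurU i j := by
  have hi' : ∀ Z, i * (i * Z) = -Z := fun Z => by rw [← mul_assoc, hi]; simp
  have hj' : ∀ Z, j * (j * Z) = -Z := fun Z => by rw [← mul_assoc, hj]; simp
  have hij' : ∀ Z, j * (i * Z) = -(i * (j * Z)) := fun Z => by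
    rw [← mul_assoc, hij]; simp [mul_assoc]
  unfold hurU
  simp only [add_mul, mul_add, neg_mul, mul_neg, one_mul, mul_one, mul_assoc, hi, hj, hij, hi',
    hj', hij', neg_neg]
  abel

theorem hurU_sq : hurU i j * hurU i j = -((2 : F) • hurU i j) - (4 : F) • 1 := by
  have hi' : ∀ Z, i * (i * Z) = -Z := fun Z => by rw [← mul_assoc, hi]; simp
  have hj' : ∀ Z, j * (j * Z) = -Z := fun Z => by rw [← mul_assoc, hj]; simp
  have hij' : ∀ Z, j * (i * Z) = -(i * (j * Z)) := fun Z => by
    rw [← mul_assoc, hij]; simp [mul_assoc]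
  unfold hurU
  simp only [add_mul, mul_add, neg_mul, mul_neg, one_mul, mul_one, mul_assoc, hi, hj, hij, hi',
    hj', hij', neg_neg, smul_add, smul_neg]
  module

theorem k_sq : (i * j) * (i * j) = -1 := by
  rw [mul_assoc, ← mul_assoc j, hij]
  simp only [neg_mul, mul_neg, mul_assoc, hj]
  rw [← mul_assoc, hi]; simp

end

theorem k_anti (i j : Matrix (Fin 2) (Fin 2) F) (hij : j * i = -(i * j)) :
    i * (i * j) = -((i * j) * i) := by
  rw [mul_assoc i j i, hij]; simp

/-- the Hurwitz element -/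
noncomputable def hurY (i j : Matrix (Fin 2) (Fin 2) F) : Matrix (Fin 2) (Fin 2) F :=
  (2 : F)⁻¹ • hurU i j

section
variable (h2 : (2 : F) ≠ 0) (i j : Matrix (Fin 2) (Fin 2) F) (hi : i * i = -1) (hj : j * j = -1)
  (hij : j * i = -(i * j))
include h2 hi hj hij

theorem trace_i : i.trace = 0 :=
  trace_zero_of_anti h2 i j hj hij

theorem trace_j : j.trace = 0 :=
  trace_zero_of_anti h2 j i hi (by rw [hij, neg_neg])

theorem trace_k : (i * j).trace = 0 :=
  trace_zero_of_anti h2 (i * j) i hi (k_anti i j hij)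

theorem trace_hurY : (hurY i j).trace = -1 := by
  unfold hurY hurU
  rw [trace_smul, trace_add, trace_add, trace_add, trace_neg, trace_i h2 i j hi hj hij,
    trace_j h2 i j hi hj hij, trace_k h2 i j hi hj hij, trace_one]
  simp
  field_simp

theorem hurY_sq : hurY i j * hurY i j = -hurY i j - 1 := by
  unfold hurY
  rw [smul_mul_smul_comm, hurU_sq i j hi hj hij]
  have h4 : (4 : F) = 2 * 2 := by norm_num
  rw [smul_sub, smul_neg, smul_smul, smul_smul, h4]
  congr 1
  · congr 1
    congr 1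
    field_simp
  · rw [show (2 : F)⁻¹ * 2⁻¹ * (2 * 2) = 1 by field_simp, one_smul]

theorem det_hurY : (hurY i j).det = 1 := by
  have h1 := cayley (hurY i j)
  rw [hurY_sq h2 i j hi hj hij, trace_hurY h2 i j hi hj hij] at h1
  have h3 : (hurY i j).det • (1 : Matrix (Fin 2) (Fin 2) F) = 1 := by
    have : (-1 : F) • hurY i j = - hurY i j := by simp
    rw [this] at h1
    have h5 := sub_right_injective h1
    exact h5.symm
  have h6 := congrFun (congrFun h3 0) 0
  simpa using h6

theorem hurY_mul_i : hurY i j * i = (i * j) * hurY i j := by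
  unfold hurY
  rw [smul_mul_assoc, mul_smul_comm, hurU_mul_i i j hi hj hij]

theorem hurY_mul_j : hurY i j * j = i * hurY i j := by
  unfold hurY
  rw [smul_mul_assoc, mul_smul_comm, hurU_mul_j i j hi hj hij]

/-- a matrix commuting with `i` and `j` is scalar -/
theorem scalar_of_comm (N : Matrix (Fin 2) (Fin 2) F) (hNi : N * i = i * N)
    (hNj : N * j = j * N) : ∃ z : F, N = z • 1 := by
  have ti := trace_i h2 i j hi hj hij
  obtain ⟨c, hc⟩ : ∃ c : F, c = N.trace / 2 := ⟨_, rfl⟩
  obtain ⟨N₀, hN₀⟩ : ∃ N₀ : Matrix (Fin 2) (Fin 2) F, N₀ = N - c • 1 := ⟨_, rfl⟩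
  have t0 : N₀.trace = 0 := by
    rw [hN₀, trace_sub, trace_smul, trace_one, hc]
    simp
    field_simp
    ring
  have c0i : N₀ * i = i * N₀ := by
    rw [hN₀, sub_mul, mul_sub, hNi]; simp
  have c0j : N₀ * j = j * N₀ := by
    rw [hN₀, sub_mul, mul_sub, hNj]; simp
  have h1 := anti_of_trace_zero N₀ i t0 ti
  rw [← c0i] at h1
  obtain ⟨τ, hτ⟩ : ∃ τ : F, τ = (N₀ * i).trace := ⟨_, rfl⟩
  rw [← hτ] at h1
  -- `2 • (N₀ * i) = τ • 1`
  have h3 : (2 : F) • N₀ = (-τ) • i := by
    have h4 : (N₀ * i + N₀ * i) * i = (τ • (1 : Matrix (Fin 2) (Fin 2) F)) * i := by rw [h1]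
    rw [add_mul, mul_assoc, hi] at h4
    simp only [mul_neg, mul_one, smul_mul_assoc, one_mul] at h4
    rw [two_smul, neg_smul, ← h4]; abel
  have h5 : N₀ = (-τ / 2) • i := by
    have : N₀ = (2 : F)⁻¹ • ((2 : F) • N₀) := by rw [smul_smul, inv_mul_cancel₀ h2, one_smul]
    rw [this, h3, smul_smul]; congr 1; field_simp
  obtain ⟨l, hl⟩ : ∃ l : F, l = -τ / 2 := ⟨_, rfl⟩
  rw [← hl] at h5
  have h6 : (2 * l) • (i * j) = 0 := by
    have h7 := c0j
    rw [h5, smul_mul_assoc, mul_smul_comm, hij, smul_neg] at h7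
    rw [mul_smul, two_smul]
    nth_rewrite 2 [h7]
    abel
  have hk : i * j ≠ 0 := by
    intro hk
    have h8 := k_sq i j hi hj hij
    rw [hk, mul_zero] at h8
    have h9 := congrFun (congrFun h8 0) 0
    simp at h9
  have hl0 : l = 0 := by
    rcases smul_eq_zero.mp h6 with h | h
    · rcases mul_eq_zero.mp h with h | h
      · exact absurd h h2
      · exact h
    · exact absurd h hk
  refine ⟨c, ?_⟩
  have : N₀ = 0 := by rw [h5, hl0, zero_smul]
  rw [hN₀, sub_eq_zero] at this
  exact this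

end

end Cfsg.Agent.Lib.Helper5.Q8Norm
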