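import Mathlib
import Cfsg.Agent.Lib.Helper5.Q8Norm.Quat

set_option autoImplicit false

/-! Generators of a quaternion subgroup of order `8` of `GL₂`. -/

namespace Cfsg.Agent.Lib.Helper5.Q8Norm

open Matrix QuaternionGroup

theorem q8_rel : (a 1 : QuaternionGroup 2) ^ 4 = 1 ∧ (a 1 : QuaternionGroup 2) ^ 2 ≠ 1 ∧
    (xa 0 : QuaternionGroup 2) ^ 2 = (a 1) ^ 2 ∧ (a 1 : QuaternionGroup 2) * xa 0 * a 1 = xa 0 := by
  decide

theorem q8_elems : ∀ g : QuaternionGroup 2, g = 1 ∨ g = a 1 ∨ g = a 1 ^ 2 ∨ g = a 1 ^ 3 ∨ g = xa 0 ∨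
    g = xa 0 * a 1 ∨ g = xa 0 * a 1 ^ 2 ∨ g = xa 0 * a 1 ^ 3 := by
  decide

theorem exists_gens {G : Type*} [Group G] (R : Subgroup G) (e : R ≃* QuaternionGroup 2) :
    ∃ A X : G, A ∈ R ∧ X ∈ R ∧ A ^ 4 = 1 ∧ A ^ 2 ≠ 1 ∧ X ^ 2 = A ^ 2 ∧ A * X * A = X ∧
      ∀ n ∈ R, n = 1 ∨ n = A ∨ n = A ^ 2 ∨ n = A ^ 3 ∨ n = X ∨ n = X * A ∨ n = X * A ^ 2 ∨
        n = X * A ^ 3 := by
  obtain ⟨r1, r2, r3, r4⟩ := q8_rel
  obtain ⟨φ, hφ⟩ : ∃ φ : QuaternionGroup 2 →* G, φ = R.subtype.comp e.symm.toMonoidHom := ⟨_, rfl⟩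
  have hφR : ∀ q, φ q ∈ R := fun q => by rw [hφ]; exact (e.symm q).2
  have hinj : Function.Injective φ := by
    rw [hφ]
    exact (Subgroup.subtype_injective R).comp e.symm.injective
  have hsurj : ∀ n ∈ R, ∃ q, n = φ q := fun n hn => ⟨e ⟨n, hn⟩, by rw [hφ]; simp⟩
  refine ⟨φ (a 1), φ (xa 0), hφR _, hφR _, ?_, ?_, ?_, ?_, ?_⟩
  · rw [← map_pow, r1, map_one]
  · intro h
    apply r2
    apply hinj
    rw [map_pow, h, map_one]
  · rw [← map_pow, ← map_pow, r3]
  · rw [← map_mul, ← map_mul, r4]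
  · intro n hn
    obtain ⟨q, rfl⟩ := hsurj n hn
    rcases q8_elems q with h | h | h | h | h | h | h | h <;> rw [h]
    · left; rw [map_one]
    · right; left; rfl
    · right; right; left; rw [map_pow]
    · right; right; right; left; rw [map_pow]
    · right; right; right; right; left; rfl
    · right; right; right; right; right; left; rw [map_mul]
    · right; right; right; right; right; right; left; rw [map_mul, map_pow]
    · right; right; right; right; right; right; right; rw [map_mul, map_pow]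

variable {F : Type*} [Field F]

/-- generators of a quaternion subgroup of `GL₂`, with their matrix relations -/
theorem exists_quat (h2 : (2 : F) ≠ 0) (R : Subgroup (GL (Fin 2) F))
    (hR : Nonempty (R ≃* QuaternionGroup 2)) :
    ∃ A X : GL (Fin 2) F, A ∈ R ∧ X ∈ R ∧
      (A : Matrix (Fin 2) (Fin 2) F) * (A : Matrix (Fin 2) (Fin 2) F) = -1 ∧
      (X : Matrix (Fin 2) (Fin 2) F) * (X : Matrix (Fin 2) (Fin 2) F) = -1 ∧
      (X : Matrix (Fin 2) (Fin 2) F) * (A : Matrix (Fin 2) (Fin 2) F) =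
        -((A : Matrix (Fin 2) (Fin 2) F) * (X : Matrix (Fin 2) (Fin 2) F)) ∧
      (∀ n ∈ R, ∃ a b : ℕ, n = X ^ b * A ^ a) ∧
      (∀ n ∈ R, (n : Matrix (Fin 2) (Fin 2) F) * (n : Matrix (Fin 2) (Fin 2) F) = -1 →
        ∃ s : Fin 3, ∃ ε : F, (ε = 1 ∨ ε = -1) ∧ (n : Matrix (Fin 2) (Fin 2) F) =
          ε • ![(A : Matrix (Fin 2) (Fin 2) F), (X : Matrix (Fin 2) (Fin 2) F),
            (A : Matrix (Fin 2) (Fin 2) F) * (X : Matrix (Fin 2) (Fin 2) F)] s) := by
  obtain ⟨e⟩ := hR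
  obtain ⟨A, X, hA, hX, r1, r2, r3, r4, hall⟩ := exists_gens R e
  have m1 : (A : Matrix (Fin 2) (Fin 2) F) * A * (A * A) = 1 := by
    have := congrArg Units.val r1
    rw [Units.val_one] at this
    rw [← this]
    simp [pow_succ, mul_assoc]
  have m2 : (A : Matrix (Fin 2) (Fin 2) F) * A ≠ 1 := by
    intro h
    apply r2
    apply Units.ext
    rw [Units.val_one, ← h]
    simp [pow_succ]
  have m3 : (X : Matrix (Fin 2) (Fin 2) F) * X = A * A := by
    have := congrArg Units.val r3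
    simpa [pow_succ] using this
  have m4 : (A : Matrix (Fin 2) (Fin 2) F) * X * A = X := by
    have := congrArg Units.val r4
    simpa using this
  obtain ⟨hi, hj, hij⟩ := quat_rel _ _ m1 m2 m3 m4
  refine ⟨A, X, hA, hX, hi, hj, hij, ?_, ?_⟩
  · intro n hn
    rcases hall n hn with h | h | h | h | h | h | h | h
    · exact ⟨0, 0, by simpa using h⟩
    · exact ⟨1, 0, by simpa using h⟩
    · exact ⟨2, 0, by simpa using h⟩
    · exact ⟨3, 0, by simpa using h⟩
    · exact ⟨0, 1, by simpa using h⟩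
    · exact ⟨1, 1, by simpa using h⟩
    · exact ⟨2, 1, by simpa using h⟩
    · exact ⟨3, 1, by simpa using h⟩
  · intro n hn hsq
    have h11 : (1 : Matrix (Fin 2) (Fin 2) F) ≠ -1 := by
      intro h
      have h' := congrFun (congrFun h 0) 0
      simp at h'
      apply h2
      linear_combination h'
    rcases hall n hn with h | h | h | h | h | h | h | h
    · exfalso; apply h11; rw [← hsq, h]; simp
    · exact ⟨0, 1, Or.inl rfl, by rw [h]; simp⟩
    · exfalso; apply h11; rw [← hsq, h]; simp [pow_succ, hi]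
    · refine ⟨0, -1, Or.inr rfl, ?_⟩
      rw [h]; simp [pow_succ, hi]
    · exact ⟨1, 1, Or.inl rfl, by rw [h]; simp⟩
    · refine ⟨2, -1, Or.inr rfl, ?_⟩
      rw [h]; simp [hij]
    · refine ⟨1, -1, Or.inr rfl, ?_⟩
      rw [h]; simp [pow_succ, hi]
    · refine ⟨2, 1, Or.inl rfl, ?_⟩
      rw [h]; simp [pow_succ, hi, hij]

end Cfsg.Agent.Lib.Helper5.Q8Norm
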