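import Mathlib
import Cfsg.Prelude.Def_GeometricClasses
import Cfsg.Agent.Lib.Helper5.Q8Norm.Quat
import Cfsg.Agent.Lib.Helper5.Q8Norm.Conj

set_option autoImplicit false

/-! The Hurwitz element normalises a quaternion subgroup of `GL₂`; conjugacy in `SL₂` at the level
of `GL₂`. -/

namespace Cfsg.Agent.Lib.Helper5.Q8Norm

open Matrix

variable {F : Type*} [Field F]

theorem mem_sl_iff (g : GL (Fin 2) F) :
    g ∈ Cfsg.Geo.specialLinear (Fin 2) F ↔ (g : Matrix (Fin 2) (Fin 2) F).det = 1 := by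
  unfold Cfsg.Geo.specialLinear
  rw [MonoidHom.mem_ker]
  constructor
  · intro h
    have := congrArg Units.val h
    simpa using this
  · intro h
    ext
    simpa using h

/-- conjugacy in `SL₂` of elements with the same trace `t`, `t² ≠ 4` -/
theorem exists_gl_conj [Fintype F] (hodd : Fintype.card F % 2 = 1) (x y : GL (Fin 2) F)
    (hx : x ∈ Cfsg.Geo.specialLinear (Fin 2) F) (hy : y ∈ Cfsg.Geo.specialLinear (Fin 2) F)
    (ht : (x : Matrix (Fin 2) (Fin 2) F).trace = (y : Matrix (Fin 2) (Fin 2) F).trace)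
    (hΔ : (x : Matrix (Fin 2) (Fin 2) F).trace ^ 2 ≠ 4) :
    ∃ g ∈ Cfsg.Geo.specialLinear (Fin 2) F, g⁻¹ * x * g = y := by
  rw [mem_sl_iff] at hx hy
  obtain ⟨gx, hgx, hx'⟩ := exists_conj_companion hodd _ hx hΔ
  obtain ⟨gy, hgy, hy'⟩ := exists_conj_companion hodd _ hy (ht ▸ hΔ)
  rw [← ht] at hy'
  have hC : (!![0, -1; 1, (x : Matrix (Fin 2) (Fin 2) F).trace] : Matrix (Fin 2) (Fin 2) F).det
      ≠ 0 := by
    rw [det_fin_two_of]; simp
  obtain ⟨Gx, hGx⟩ : ∃ Gx : GL (Fin 2) F, (Gx : Matrix (Fin 2) (Fin 2) F) = gx :=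
    ⟨Matrix.GeneralLinearGroup.mkOfDetNeZero gx (by rw [hgx]; exact one_ne_zero), rfl⟩
  obtain ⟨Gy, hGy⟩ : ∃ Gy : GL (Fin 2) F, (Gy : Matrix (Fin 2) (Fin 2) F) = gy :=
    ⟨Matrix.GeneralLinearGroup.mkOfDetNeZero gy (by rw [hgy]; exact one_ne_zero), rfl⟩
  obtain ⟨Cg, hCg⟩ : ∃ Cg : GL (Fin 2) F, (Cg : Matrix (Fin 2) (Fin 2) F) =
      !![0, -1; 1, (x : Matrix (Fin 2) (Fin 2) F).trace] :=
    ⟨Matrix.GeneralLinearGroup.mkOfDetNeZero _ hC, rfl⟩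
  have e1 : x * Gx = Gx * Cg := by
    apply Units.ext
    rw [Units.val_mul, Units.val_mul, hGx, hCg, hx']
  have e2 : y * Gy = Gy * Cg := by
    apply Units.ext
    rw [Units.val_mul, Units.val_mul, hGy, hCg, hy']
  refine ⟨Gx * Gy⁻¹, ?_, ?_⟩
  · apply Subgroup.mul_mem
    · rw [mem_sl_iff, hGx, hgx]
    · apply Subgroup.inv_mem
      rw [mem_sl_iff, hGy, hgy]
  · have h1 : Gx⁻¹ * x * Gx = Cg := by rw [mul_assoc, e1, inv_mul_cancel_left]
    have h2 : Gy * Cg * Gy⁻¹ = y := by rw [← e2, mul_inv_cancel_right]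
    calc (Gx * Gy⁻¹)⁻¹ * x * (Gx * Gy⁻¹) = Gy * (Gx⁻¹ * x * Gx) * Gy⁻¹ := by group
      _ = y := by rw [h1, h2]

theorem det_of_sq (N : Matrix (Fin 2) (Fin 2) F) (hN : N * N = -1) (ht : N.trace = 0) :
    N.det = 1 := by
  have h1 := cayley N
  rw [hN, ht, zero_smul, zero_sub, neg_inj] at h1
  have h2 := congrFun (congrFun h1 0) 0
  simpa using h2.symm

/-- the Hurwitz element as an element of `SL₂` normalising `R` -/
theorem exists_hurwitz [Finite F] (h2 : (2 : F) ≠ 0) (R : Subgroup (GL (Fin 2) F))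
    (A X : GL (Fin 2) F) (hA : A ∈ R) (hX : X ∈ R)
    (hi : (A : Matrix (Fin 2) (Fin 2) F) * (A : Matrix (Fin 2) (Fin 2) F) = -1)
    (hj : (X : Matrix (Fin 2) (Fin 2) F) * (X : Matrix (Fin 2) (Fin 2) F) = -1)
    (hij : (X : Matrix (Fin 2) (Fin 2) F) * (A : Matrix (Fin 2) (Fin 2) F) =
        -((A : Matrix (Fin 2) (Fin 2) F) * (X : Matrix (Fin 2) (Fin 2) F)))
    (hgen : ∀ n ∈ R, ∃ a b : ℕ, n = X ^ b * A ^ a) :
    ∃ Y : GL (Fin 2) F, (Y : Matrix (Fin 2) (Fin 2) F) =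
        hurY (A : Matrix (Fin 2) (Fin 2) F) (X : Matrix (Fin 2) (Fin 2) F) ∧
      Y ∈ Cfsg.Geo.specialLinear (Fin 2) F ∧ Y ∈ Cfsg.Geo.subgroupNormalizer R := by
  have hdet := det_hurY h2 _ _ hi hj hij
  obtain ⟨Y, hY⟩ : ∃ Y : GL (Fin 2) F, (Y : Matrix (Fin 2) (Fin 2) F) =
      hurY (A : Matrix (Fin 2) (Fin 2) F) (X : Matrix (Fin 2) (Fin 2) F) :=
    ⟨Matrix.GeneralLinearGroup.mkOfDetNeZero
      (hurY (A : Matrix (Fin 2) (Fin 2) F) (X : Matrix (Fin 2) (Fin 2) F))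
      (ne_of_eq_of_ne hdet one_ne_zero), rfl⟩
  refine ⟨Y, hY, ?_, ?_⟩
  · rw [mem_sl_iff, hY, hdet]
  · have c1 : Y * A * Y⁻¹ = A * X := by
      rw [mul_inv_eq_iff_eq_mul]
      apply Units.ext
      simp only [Units.val_mul, hY]
      exact hurY_mul_i h2 _ _ hi hj hij
    have c2 : Y * X * Y⁻¹ = A := by
      rw [mul_inv_eq_iff_eq_mul]
      apply Units.ext
      simp only [Units.val_mul, hY]
      exact hurY_mul_j h2 _ _ hi hj hij
    unfold Cfsg.Geo.subgroupNormalizer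
    apply Subgroup.mem_normalizer_fintype
    intro n hn
    obtain ⟨a, b, rfl⟩ := hgen n hn
    have : Y * (X ^ b * A ^ a) * Y⁻¹ = (Y * X * Y⁻¹) ^ b * (Y * A * Y⁻¹) ^ a := by
      rw [conj_pow, conj_pow, conj_mul]
    rw [this, c1, c2]
    exact R.mul_mem (R.pow_mem hA _) (R.pow_mem (R.mul_mem hA hX) _)

end Cfsg.Agent.Lib.Helper5.Q8Norm
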