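import Mathlib
import Cfsg.Prelude.Def_GeometricClasses
import Cfsg.Agent.Lib.Helper5.Q8Norm.Gens
import Cfsg.Agent.Lib.Helper5.Q8Norm.Hur

set_option autoImplicit false

/-! Elements of order `2` and `3` of `PSL₂` are conjugate into the normaliser of a quaternion
subgroup. -/

namespace Cfsg.Agent.Lib.Helper5.Q8Norm

open Matrix

variable {F : Type*} [Field F]

theorem scalar_of_smul (M : Matrix (Fin 2) (Fin 2) F) (t c : F) (ht : t ≠ 0)
    (h : t • M = c • 1) : M = (t⁻¹ * c) • 1 := by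
  rw [mul_smul, ← h, smul_smul, inv_mul_cancel₀ ht, one_smul]

theorem fixes_of_two_or_three [Fintype F] (hodd : Fintype.card F % 2 = 1) (h2 : (2 : F) ≠ 0)
    (h3 : (3 : F) ≠ 0) (R : Subgroup (GL (Fin 2) F)) (hR : Nonempty (R ≃* QuaternionGroup 2))
    (r : ℕ) (hr : r = 2 ∨ r = 3) (x : GL (Fin 2) F)
    (hx : x ∈ Cfsg.Geo.specialLinear (Fin 2) F)
    (hxr : ∃ z : F, ((x ^ r : GL (Fin 2) F) : Matrix (Fin 2) (Fin 2) F) =
      z • (1 : Matrix (Fin 2) (Fin 2) F))
    (hns : ∀ z : F, (x : Matrix (Fin 2) (Fin 2) F) ≠ z • (1 : Matrix (Fin 2) (Fin 2) F)) :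
    ∃ g ∈ Cfsg.Geo.specialLinear (Fin 2) F, g⁻¹ * x * g ∈ Cfsg.Geo.subgroupNormalizer R := by
  obtain ⟨A, X, hA, hX, hi, hj, hij, hgen, -⟩ := exists_quat h2 R hR
  obtain ⟨Y, hY, hYsl, hYn⟩ := exists_hurwitz h2 R A X hA hX hi hj hij hgen
  have hRN : R ≤ Cfsg.Geo.subgroupNormalizer R := Subgroup.le_normalizer
  have hdet : (x : Matrix (Fin 2) (Fin 2) F).det = 1 := (mem_sl_iff x).mp hx
  have hC := cayley (x : Matrix (Fin 2) (Fin 2) F)
  rw [hdet, one_smul] at hC
  obtain ⟨t, ht⟩ : ∃ t : F, t = (x : Matrix (Fin 2) (Fin 2) F).trace := ⟨_, rfl⟩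
  rw [← ht] at hC
  obtain ⟨z, hz⟩ := hxr
  have h4 : (4 : F) ≠ 0 := by
    have : (4 : F) = 2 * 2 := by norm_num
    rw [this]; exact mul_ne_zero h2 h2
  rcases hr with rfl | rfl
  · -- involutions
    rw [Units.val_pow_eq_pow_val, pow_two, hC] at hz
    have ht0 : t = 0 := by
      by_contra ht0
      have h5 : t • (x : Matrix (Fin 2) (Fin 2) F) = (z + 1) • 1 := by
        rw [add_smul, one_smul, ← hz]; abel
      exact hns _ (scalar_of_smul _ _ _ ht0 h5)
    have tA := trace_i h2 _ _ hi hj hij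
    have hAsl : A ∈ Cfsg.Geo.specialLinear (Fin 2) F := by
      rw [mem_sl_iff]; exact det_of_sq _ hi tA
    obtain ⟨g, hg, hgx⟩ := exists_gl_conj hodd x A hx hAsl (by rw [← ht, ht0, tA])
      (by rw [← ht, ht0]; simpa using h4.symm)
    exact ⟨g, hg, hgx ▸ hRN hA⟩
  · -- elements of order three
    rw [Units.val_pow_eq_pow_val, pow_succ, pow_two, hC] at hz
    have h5 : (t * t - 1) • (x : Matrix (Fin 2) (Fin 2) F) = (z + t) • 1 := by
      rw [sub_mul, smul_mul_assoc, hC, one_mul] at hz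
      rw [add_smul, ← hz, smul_sub, sub_smul, one_smul, smul_smul]
      abel
    have ht1 : t * t - 1 = 0 := by
      by_contra ht0
      exact hns _ (scalar_of_smul _ _ _ ht0 h5)
    have ht1' : t * t = 1 := by linear_combination ht1
    have hΔ : (x : Matrix (Fin 2) (Fin 2) F).trace ^ 2 ≠ 4 := by
      rw [← ht, pow_two, ht1']
      intro h
      apply h3
      linear_combination -h
    rcases mul_self_eq_one_iff.mp ht1' with h | h
    · -- trace `1`: conjugate to `-Y`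
      have hm1 : (-1 : GL (Fin 2) F) = A ^ 2 := by
        apply Units.ext
        rw [Units.val_pow_eq_pow_val, pow_two, hi]
        simp
      have hYn' : -Y ∈ Cfsg.Geo.subgroupNormalizer R := by
        rw [← neg_one_mul, hm1]
        exact Subgroup.mul_mem _ (hRN (R.pow_mem hA 2)) hYn
      have hYsl' : -Y ∈ Cfsg.Geo.specialLinear (Fin 2) F := by
        rw [mem_sl_iff, Units.val_neg, det_neg, (mem_sl_iff Y).mp hYsl]
        simp
      obtain ⟨g, hg, hgx⟩ := exists_gl_conj hodd x (-Y) hx hYsl'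
        (by rw [← ht, h, Units.val_neg, trace_neg, hY, trace_hurY h2 _ _ hi hj hij, neg_neg]) hΔ
      exact ⟨g, hg, hgx ▸ hYn'⟩
    · obtain ⟨g, hg, hgx⟩ := exists_gl_conj hodd x Y hx hYsl
        (by rw [← ht, h, hY, trace_hurY h2 _ _ hi hj hij]) hΔ
      exact ⟨g, hg, hgx ▸ hYn⟩

end Cfsg.Agent.Lib.Helper5.Q8Norm
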