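import Mathlib
import Cfsg.Prelude.Def_GeometricClasses
import Cfsg.Agent.Lib.Helper5.Q8Norm.Gens
import Cfsg.Agent.Lib.Helper5.Q8Norm.Hur

set_option autoImplicit false

/-! An element of prime order at least `5` normalising a quaternion subgroup of `GL₂` is scalar. -/

namespace Cfsg.Agent.Lib.Helper5.Q8Norm

open Matrix

theorem commute_sq_of_sign {G : Type*} [Group G] [HasDistribNeg G] (P B : G)
    (h : P * B = B * P ∨ P * B = -(B * P)) : Commute (P ^ 2) B := by
  rcases h with h | h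
  · exact Commute.pow_left h 2
  · show P ^ 2 * B = B * P ^ 2
    rw [pow_two, mul_assoc, h, mul_neg, ← mul_assoc, h, neg_mul, neg_neg, mul_assoc]

variable {F : Type*} [Field F]

theorem comm_of_normalizer (R : Subgroup (GL (Fin 2) F)) (A X : GL (Fin 2) F)
    (hclass : ∀ n ∈ R, (n : Matrix (Fin 2) (Fin 2) F) * (n : Matrix (Fin 2) (Fin 2) F) = -1 →
        ∃ s : Fin 3, ∃ ε : F, (ε = 1 ∨ ε = -1) ∧ (n : Matrix (Fin 2) (Fin 2) F) =
          ε • ![(A : Matrix (Fin 2) (Fin 2) F), (X : Matrix (Fin 2) (Fin 2) F),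
            (A : Matrix (Fin 2) (Fin 2) F) * (X : Matrix (Fin 2) (Fin 2) F)] s)
    (h : GL (Fin 2) F) (hh : h ∈ Cfsg.Geo.subgroupNormalizer R) (r : ℕ) (hr : r.Prime)
    (hr2 : r ≠ 2) (hr3 : r ≠ 3) (hpow : h ^ r = 1) (B : GL (Fin 2) F) (hB : B ∈ R)
    (hBsq : (B : Matrix (Fin 2) (Fin 2) F) * (B : Matrix (Fin 2) (Fin 2) F) = -1) :
    h * B = B * h := by
  have hk : ∀ k : ℕ, h ^ k * B * (h ^ k)⁻¹ ∈ R := fun k =>
    ((Subgroup.mem_set_normalizer_iff.mp
      (Subgroup.pow_mem (Cfsg.Geo.subgroupNormalizer R) hh k)) B).mp hB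
  have hksq : ∀ k : ℕ, ((h ^ k * B * (h ^ k)⁻¹ : GL (Fin 2) F) : Matrix (Fin 2) (Fin 2) F) *
      ((h ^ k * B * (h ^ k)⁻¹ : GL (Fin 2) F) : Matrix (Fin 2) (Fin 2) F) = -1 := by
    intro k
    rw [← Units.val_mul]
    have : h ^ k * B * (h ^ k)⁻¹ * (h ^ k * B * (h ^ k)⁻¹) = h ^ k * (B * B) * (h ^ k)⁻¹ := by
      group
    rw [this]
    simp only [Units.val_mul]
    rw [hBsq, mul_neg, mul_one, neg_mul, Units.mul_inv]
  choose s ε hε hN using fun k => hclass _ (hk k) (hksq k)
  -- two of four conjugates lie on the same axis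
  have key : ∃ k m : ℕ, 1 ≤ m ∧ m ≤ 3 ∧ s (k + m) = s k := by
    obtain ⟨k, k', hne, hs⟩ := Fintype.exists_ne_map_eq_of_card_lt (fun k : Fin 4 => s k)
      (by simp)
    rcases lt_or_gt_of_ne hne with hlt | hlt
    · refine ⟨k, k' - k, ?_, ?_, ?_⟩
      · have : (k : ℕ) < k' := hlt
        omega
      · have := k'.2; omega
      · have : (k : ℕ) < k' := hlt
        have e : (k : ℕ) + ((k' : ℕ) - k) = k' := by omega
        rw [e]; exact hs.symm
    · refine ⟨k', k - k', ?_, ?_, ?_⟩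
      · have : (k' : ℕ) < k := hlt
        omega
      · have := k.2; omega
      · have : (k' : ℕ) < k := hlt
        have e : (k' : ℕ) + ((k : ℕ) - k') = k := by omega
        rw [e]; exact hs
  obtain ⟨k, m, hm1, hm3, hs⟩ := key
  -- the sign
  have hsign : h ^ m * B = B * h ^ m ∨ h ^ m * B = -(B * h ^ m) := by
    have e1 := hN (k + m)
    have e2 := hN k
    rw [hs] at e1
    have hεk : ε k * ε k = 1 := by
      rcases hε k with h | h <;> rw [h] <;> ring
    have e3 : ((h ^ (k + m) * B * (h ^ (k + m))⁻¹ : GL (Fin 2) F) : Matrix (Fin 2) (Fin 2) F) =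
        (ε (k + m) * ε k) • ((h ^ k * B * (h ^ k)⁻¹ : GL (Fin 2) F) :
          Matrix (Fin 2) (Fin 2) F) := by
      rw [e1, e2, smul_smul, mul_assoc, hεk, mul_one]
    have e4 : h ^ (k + m) * B * (h ^ (k + m))⁻¹ = h ^ k * (h ^ m * B * (h ^ m)⁻¹) * (h ^ k)⁻¹ := by
      rw [pow_add]; group
    have hδ : ε (k + m) * ε k = 1 ∨ ε (k + m) * ε k = -1 := by
      rcases hε k with h | h <;> rcases hε (k + m) with h' | h' <;> rw [h, h'] <;> simp
    rcases hδ with hδ | hδ
    · left
      rw [hδ, one_smul] at e3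
      have e5 := Units.ext e3
      rw [e4] at e5
      have e6 := mul_left_cancel (mul_right_cancel e5)
      rw [mul_inv_eq_iff_eq_mul] at e6
      exact e6
    · right
      rw [hδ, neg_one_smul, ← Units.val_neg] at e3
      have e5 := Units.ext e3
      have e7 : -(h ^ k * B * (h ^ k)⁻¹) = h ^ k * (-B) * (h ^ k)⁻¹ := by rw [mul_neg, neg_mul]
      rw [e4, e7] at e5
      have e6 := mul_left_cancel (mul_right_cancel e5)
      rw [mul_inv_eq_iff_eq_mul] at e6
      rw [e6, neg_mul]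
  have hcomm := commute_sq_of_sign _ _ hsign
  rw [← pow_mul] at hcomm
  -- `m * 2` is prime to `r`
  have hnd : ¬ r ∣ m * 2 := by
    intro hd
    have hle : r ≤ 6 := le_trans (Nat.le_of_dvd (by omega) hd) (by omega)
    interval_cases r
    · exact absurd hr (by norm_num)
    · exact absurd hr (by norm_num)
    · exact hr2 rfl
    · exact hr3 rfl
    · exact absurd hr (by norm_num)
    · omega
    · exact absurd hr (by norm_num)
  have hcop : Nat.Coprime (m * 2) r := ((Nat.Prime.coprime_iff_not_dvd hr).2 hnd).symm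
  obtain ⟨u, -, hu⟩ := Nat.exists_mul_mod_eq_one_of_coprime hcop hr.one_lt
  have hh1 : h ^ (m * 2 * u) = h := by
    rw [pow_eq_pow_mod _ hpow, hu, pow_one]
  have := hcomm.pow_left u
  rw [← pow_mul, hh1] at this
  exact this

/-- an element of prime order `r ≥ 5` normalising `R` is scalar -/
theorem scalar_of_normalizer (h2 : (2 : F) ≠ 0) (R : Subgroup (GL (Fin 2) F))
    (hR : Nonempty (R ≃* QuaternionGroup 2)) (h : GL (Fin 2) F)
    (hh : h ∈ Cfsg.Geo.subgroupNormalizer R) (r : ℕ) (hr : r.Prime)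
    (hr2 : r ≠ 2) (hr3 : r ≠ 3) (hpow : h ^ r = 1) :
    ∃ z : F, (h : Matrix (Fin 2) (Fin 2) F) = z • 1 := by
  obtain ⟨A, X, hA, hX, hi, hj, hij, -, hclass⟩ := exists_quat h2 R hR
  have c1 := comm_of_normalizer R A X hclass h hh r hr hr2 hr3 hpow A hA hi
  have c2 := comm_of_normalizer R A X hclass h hh r hr hr2 hr3 hpow X hX hj
  apply scalar_of_comm h2 _ _ hi hj hij
  · have := congrArg Units.val c1
    simpa using this
  · have := congrArg Units.val c2
    simpa using this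

end Cfsg.Agent.Lib.Helper5.Q8Norm
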