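import Mathlib
import Cfsg.Prelude.Def_GeometricClasses
import Cfsg.Agent.Lib.Helper5.Q8Norm.Fix
import Cfsg.Agent.Lib.Helper5.Q8Norm.NoFix

set_option autoImplicit false

/-! Elements of prime order of `PSL₂(p)` fixing a coset of the normaliser of a quaternion
subgroup. -/

namespace Cfsg.Agent.Lib.Helper5.Q8Norm

open Matrix

theorem main {F : Type*} [Field F] [Fintype F] {p : ℕ} [Fact p.Prime] [CharP F p]
    (hF : Fintype.card F = p) (hp : 5 ≤ p)
    (R : Subgroup (GL (Fin 2) F)) (hR : Nonempty (↥R ≃* QuaternionGroup 2))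
    (r : ℕ) [Fact r.Prime]
    (hΩ : r ∣ (Cfsg.Geo.subgroupNormalizer R).relIndex (Cfsg.Geo.specialLinear (Fin 2) F)) :
    (∀ x ∈ Cfsg.Geo.specialLinear (Fin 2) F,
      (∃ z : F, ((x ^ r : GL (Fin 2) F) : Matrix (Fin 2) (Fin 2) F) =
        z • (1 : Matrix (Fin 2) (Fin 2) F)) →
      (∀ z : F, (x : Matrix (Fin 2) (Fin 2) F) ≠ z • (1 : Matrix (Fin 2) (Fin 2) F)) →
      ∃ g ∈ Cfsg.Geo.specialLinear (Fin 2) F, g⁻¹ * x * g ∈ Cfsg.Geo.subgroupNormalizer R) ↔
      (r = 2 ∨ r = 3) := by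
  have hpp : p.Prime := Fact.out
  have hrp : r.Prime := Fact.out
  have h2 : (2 : F) ≠ 0 := by
    intro h
    have h' : ((2 : ℕ) : F) = 0 := by exact_mod_cast h
    rw [CharP.cast_eq_zero_iff F p 2] at h'
    have := Nat.le_of_dvd (by norm_num) h'
    omega
  have h3 : (3 : F) ≠ 0 := by
    intro h
    have h' : ((3 : ℕ) : F) = 0 := by exact_mod_cast h
    rw [CharP.cast_eq_zero_iff F p 3] at h'
    have := Nat.le_of_dvd (by norm_num) h'
    omega
  have hodd : Fintype.card F % 2 = 1 := by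
    rw [hF]
    rcases hpp.eq_two_or_odd with h | h
    · omega
    · exact h
  constructor
  · intro hall
    by_contra hne
    push Not at hne
    obtain ⟨hr2, hr3⟩ := hne
    have hdvd : r ∣ Nat.card (Cfsg.Geo.specialLinear (Fin 2) F) :=
      hΩ.trans (Subgroup.relIndex_dvd_card _ _)
    obtain ⟨x₀, hx₀⟩ := exists_prime_orderOf_dvd_card' r hdvd
    have hxr : (x₀ : GL (Fin 2) F) ^ r = 1 := by
      have := pow_orderOf_eq_one x₀
      rw [hx₀] at this
      have h' := congrArg Subtype.val this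
      simpa using h'
    have hns : ∀ z : F, ((x₀ : GL (Fin 2) F) : Matrix (Fin 2) (Fin 2) F) ≠
        z • (1 : Matrix (Fin 2) (Fin 2) F) := by
      intro z hz
      have hdet := (mem_sl_iff (x₀ : GL (Fin 2) F)).mp x₀.2
      rw [hz, det_smul, det_one, mul_one] at hdet
      simp only [Fintype.card_fin] at hdet
      have hsq : (x₀ : GL (Fin 2) F) ^ 2 = 1 := by
        apply Units.ext
        rw [Units.val_pow_eq_pow_val, pow_two, hz, smul_mul_smul_comm, mul_one, ← pow_two, hdet,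
          one_smul, Units.val_one]
      have hsq' : x₀ ^ 2 = 1 := by
        apply Subtype.ext
        simpa using hsq
      have hd := orderOf_dvd_of_pow_eq_one hsq'
      rw [hx₀] at hd
      have hle := Nat.le_of_dvd (by norm_num) hd
      have := hrp.two_le
      omega
    obtain ⟨g, hg, hgn⟩ := hall _ x₀.2 ⟨1, by rw [hxr]; simp⟩ hns
    have hpow : (g⁻¹ * (x₀ : GL (Fin 2) F) * g) ^ r = 1 := by
      have : g⁻¹ * (x₀ : GL (Fin 2) F) * g = g⁻¹ * (x₀ : GL (Fin 2) F) * g⁻¹⁻¹ := by rw [inv_inv]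
      rw [this, conj_pow, hxr]
      simp
    obtain ⟨z, hz⟩ := scalar_of_normalizer h2 R hR _ hgn r hrp hr2 hr3 hpow
    apply hns z
    have : (x₀ : GL (Fin 2) F) = g * (g⁻¹ * (x₀ : GL (Fin 2) F) * g) * g⁻¹ := by group
    rw [this]
    rw [Units.val_mul, Units.val_mul, hz, mul_smul_comm, mul_one, smul_mul_assoc, Units.mul_inv]
  · intro hr x hx hxr hns
    exact fixes_of_two_or_three hodd h2 h3 R hR r hr x hx hxr hns

end Cfsg.Agent.Lib.Helper5.Q8Norm
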